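import Mathlib
import Groth.Agent.ApproxLib.SpecChart
import Groth.Agent.AdicRingLib.Completion

/-!
# Finite type refinements controlling maps to a completion
-/

set_option autoImplicit false
set_option backward.isDefEq.respectTransparency false
set_option backward.isDefEq.respectTransparency.types false

universe u

open CategoryTheory AlgebraicGeometry TopologicalSpace

namespace CompRefineLib

/-- The algebraic refinement. -/
theorem exists_refinement {R B C : Type u} [CommRing R] [CommRing B] [CommRing C] [Algebra R B]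
    [Algebra.FiniteType R B] [Algebra R C] (φ : B →ₐ[R] C) (J : Ideal R) (hJ : J.FG)
    (happ : ∀ x : C, ∃ f a : R, IsUnit (algebraMap R C f) ∧
      algebraMap R C f * x - algebraMap R C a ∈ J.map (algebraMap R C)) :
    ∃ (B' : Type u) (_ : CommRing B') (ι : B →+* B'), ι.FiniteType ∧
      (∃ φ' : B' →+* C, φ'.comp ι = φ.toRingHom) ∧
      ∀ ψ : B' →+* C, (ψ.comp ι).comp (algebraMap R B) = algebraMap R C →
        ∀ b, φ b - ψ (ι b) ∈ J.map (algebraMap R C) := by
  classical
  obtain ⟨s, hs⟩ := Algebra.FiniteType.out (R := R) (A := B)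
  obtain ⟨r, π, hπ⟩ := Submodule.fg_iff_exists_fin_generating_family.1 hJ
  have hJC : J.map (algebraMap R C) = Ideal.span (Set.range fun j => algebraMap R C (π j)) := by
    conv_lhs => rw [← hπ]
    rw [Ideal.submodule_span_eq, Ideal.map_span, ← Set.range_comp]
    rfl
  choose f a hf hfa using fun b : s => happ (φ b.1)
  have hco : ∀ b : s, ∃ c : Fin r → C, ∑ j, c j * algebraMap R C (π j) =
      algebraMap R C (f b) * φ b.1 - algebraMap R C (a b) := fun b =>
    Ideal.mem_span_range_iff_exists_fun.1 (hJC ▸ hfa b)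
  choose c hc using hco
  let E : s → MvPolynomial (s × Fin r) B := fun b =>
    MvPolynomial.C (algebraMap R B (f b) * b.1 - algebraMap R B (a b)) -
      ∑ j, MvPolynomial.X (b, j) * MvPolynomial.C (algebraMap R B (π j))
  let K : Ideal (MvPolynomial (s × Fin r) B) := Ideal.span (Set.range E)
  have hK : ∀ e ∈ K, MvPolynomial.eval₂Hom φ.toRingHom (fun x => c x.1 x.2) e = 0 := by
    intro e he
    have hle : K ≤ RingHom.ker (MvPolynomial.eval₂Hom φ.toRingHom (fun x => c x.1 x.2)) := by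
      refine Ideal.span_le.2 ?_
      rintro _ ⟨b, rfl⟩
      simp [E, RingHom.mem_ker, hc b]
    exact hle he
  refine ⟨MvPolynomial (s × Fin r) B ⧸ K, inferInstance,
    (Ideal.Quotient.mk K).comp MvPolynomial.C,
    (RingHom.FiniteType.of_surjective _ Ideal.Quotient.mk_surjective).comp ?_,
    ⟨Ideal.Quotient.lift K _ hK, ?_⟩, fun ψ hψ b => ?_⟩
  · rw [← MvPolynomial.algebraMap_eq]
    exact RingHom.finiteType_algebraMap.2 inferInstance
  · ext x
    simp
  · let ψB : B →ₐ[R] C :=
      { toRingHom := ψ.comp ((Ideal.Quotient.mk K).comp MvPolynomial.C)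
        commutes' := fun r => by
          have := RingHom.congr_fun hψ r
          simpa using this }
    have hq : (Ideal.Quotient.mkₐ R (J.map (algebraMap R C))).comp φ =
        (Ideal.Quotient.mkₐ R (J.map (algebraMap R C))).comp ψB := by
      refine AlgHom.ext_of_adjoin_eq_top hs ?_
      intro x hx
      have h1 : ψ (Ideal.Quotient.mk K (E ⟨x, hx⟩)) = 0 := by
        rw [Ideal.Quotient.eq_zero_iff_mem.2 (Ideal.subset_span ⟨⟨x, hx⟩, rfl⟩ : E ⟨x, hx⟩ ∈ K), map_zero]
      simp only [E, map_sub, map_mul, map_sum] at h1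
      have h2 : algebraMap R C (f ⟨x, hx⟩) * ψB x - algebraMap R C (a ⟨x, hx⟩) ∈
          J.map (algebraMap R C) := by
        rw [sub_eq_zero] at h1
        have e : ∀ t : R, ψ (Ideal.Quotient.mk K (MvPolynomial.C (algebraMap R B t))) =
            algebraMap R C t := fun t => ψB.commutes t
        simp only [e] at h1
        show algebraMap R C (f ⟨x, hx⟩) * ψ (Ideal.Quotient.mk K (MvPolynomial.C x)) - _ ∈ _
        rw [h1]
        refine Ideal.sum_mem _ fun j _ => Ideal.mul_mem_left _ _ (Ideal.mem_map_of_mem _ ?_)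
        rw [← hπ]
        exact Submodule.subset_span ⟨j, rfl⟩
      have h3 : algebraMap R C (f ⟨x, hx⟩) * (φ x - ψB x) ∈ J.map (algebraMap R C) := by
        have := Ideal.sub_mem _ (hfa ⟨x, hx⟩) h2
        rwa [show ∀ p q r : C, algebraMap R C (f ⟨x, hx⟩) * p - r -
          (algebraMap R C (f ⟨x, hx⟩) * q - r) = algebraMap R C (f ⟨x, hx⟩) * (p - q) from
          fun p q r => by ring] at this
      exact Ideal.Quotient.mk_eq_mk_iff_sub_mem _ _ |>.2
        ((Ideal.unit_mul_mem_iff_mem _ (hf _)).1 h3)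
    exact (Ideal.Quotient.mk_eq_mk_iff_sub_mem _ _).1 (AlgHom.congr_fun hq b)

/-- The preimage of the maximal ideal under a hom with `m ↦ n`. -/
theorem comap_maximalIdeal_eq {A C : Type u} [CommRing A] [IsLocalRing A] [CommRing C]
    [IsLocalRing C] (σ : A →+* C)
    (hloc : ∀ a ∈ IsLocalRing.maximalIdeal A, σ a ∈ IsLocalRing.maximalIdeal C) :
    (IsLocalRing.maximalIdeal C).comap σ = IsLocalRing.maximalIdeal A :=
  le_antisymm (IsLocalRing.le_maximalIdeal
    (Ideal.comap_ne_top σ (IsLocalRing.maximalIdeal.isMaximal C).ne_top)) fun a ha => hloc a ha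

theorem exists_scheme {T S : Scheme.{u}} [IsNoetherian S]
    (h : T ⟶ S) [LocallyOfFiniteType h] (t : T)
    (σ : ↑(T.presheaf.stalk t) →+* (AdicCompletion (IsLocalRing.maximalIdeal ↑(S.presheaf.stalk (h t))) ↑(S.presheaf.stalk (h t))))
    (hσ : σ.comp (h.stalkMap t).hom = algebraMap ↑(S.presheaf.stalk (h t)) (AdicCompletion (IsLocalRing.maximalIdeal ↑(S.presheaf.stalk (h t))) ↑(S.presheaf.stalk (h t))))
    (hloc : ∀ a ∈ IsLocalRing.maximalIdeal ↑(T.presheaf.stalk t),
      σ a ∈ (IsLocalRing.maximalIdeal ↑(S.presheaf.stalk (h t))).map (algebraMap ↑(S.presheaf.stalk (h t)) (AdicCompletion (IsLocalRing.maximalIdeal ↑(S.presheaf.stalk (h t))) ↑(S.presheaf.stalk (h t)))))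
    (N : ℕ) :
    ∃ (T' : Scheme.{u}) (g : T' ⟶ T) (t' : T') (hg : g t' = t) (τ : ↑(T'.presheaf.stalk t') →+* (AdicCompletion (IsLocalRing.maximalIdeal ↑(S.presheaf.stalk (h t))) ↑(S.presheaf.stalk (h t)))),
      LocallyOfFiniteType g ∧ IsAffine T' ∧
      τ.comp ((g.stalkMap t').hom.comp (T.presheaf.stalkCongr (Inseparable.of_eq hg)).inv.hom) = σ ∧
      ∀ (σ' : ↑(T.presheaf.stalk t) →+* (AdicCompletion (IsLocalRing.maximalIdeal ↑(S.presheaf.stalk (h t))) ↑(S.presheaf.stalk (h t)))),
        σ'.comp (h.stalkMap t).hom = algebraMap ↑(S.presheaf.stalk (h t)) (AdicCompletion (IsLocalRing.maximalIdeal ↑(S.presheaf.stalk (h t))) ↑(S.presheaf.stalk (h t))) →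
        (∃ τ' : ↑(T'.presheaf.stalk t') →+* (AdicCompletion (IsLocalRing.maximalIdeal ↑(S.presheaf.stalk (h t))) ↑(S.presheaf.stalk (h t))),
          τ'.comp ((g.stalkMap t').hom.comp (T.presheaf.stalkCongr (Inseparable.of_eq hg)).inv.hom) = σ') →
        ∀ a : ↑(T.presheaf.stalk t), σ a - σ' a ∈ (IsLocalRing.maximalIdeal ↑(S.presheaf.stalk (h t)) ^ N).map (algebraMap ↑(S.presheaf.stalk (h t)) (AdicCompletion (IsLocalRing.maximalIdeal ↑(S.presheaf.stalk (h t))) ↑(S.presheaf.stalk (h t)))) := by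
  set Os := S.presheaf.stalk (h t) with hOs
  set C := AdicCompletion (IsLocalRing.maximalIdeal Os) Os with hC
  obtain ⟨U, hU, hsU, -⟩ := exists_isAffineOpen_mem_and_subset
    (show h t ∈ (⊤ : S.Opens) from trivial)
  obtain ⟨V, hV, htV, hVU⟩ := exists_isAffineOpen_mem_and_subset
    (show t ∈ h ⁻¹ᵁ U from hsU)
  letI algB : Algebra Γ(S, U) Γ(T, V) := (h.appLE U V hVU).hom.toAlgebra
  haveI : Algebra.FiniteType Γ(S, U) Γ(T, V) := h.finiteType_appLE hU hV hVU
  letI algC : Algebra Γ(S, U) C :=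
    ((algebraMap Os C).comp (S.presheaf.germ U (h t) hsU).hom).toAlgebra
  have hgerm : ∀ r, T.presheaf.germ V t htV (h.appLE U V hVU r) =
      h.stalkMap t (S.presheaf.germ U (h t) hsU r) := by
    intro r
    rw [Scheme.Hom.germ_stalkMap_apply]
    exact TopCat.Presheaf.germ_res_apply _ _ _ _ _
  let φ : Γ(T, V) →ₐ[Γ(S, U)] C :=
    { toRingHom := σ.comp (T.presheaf.germ V t htV).hom
      commutes' := fun r => by
        show σ (T.presheaf.germ V t htV (h.appLE U V hVU r)) = _
        rw [hgerm]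
        exact RingHom.congr_fun hσ _ }
  letI algOs : Algebra Γ(S, U) Os := TopCat.Presheaf.algebra_section_stalk S.presheaf ⟨h t, hsU⟩
  haveI hlocU : IsLocalization.AtPrime Os (hU.primeIdealOf ⟨h t, hsU⟩).asIdeal :=
    hU.isLocalization_stalk ⟨h t, hsU⟩
  haveI : IsNoetherianRing Γ(S, U) := IsLocallyNoetherian.component_noetherian ⟨U, hU⟩
  set P := (hU.primeIdealOf ⟨h t, hsU⟩).asIdeal
  have hJC : (P ^ N).map (algebraMap Γ(S, U) C) =
      (IsLocalRing.maximalIdeal Os ^ N).map (algebraMap Os C) := by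
    rw [show algebraMap Γ(S, U) C = (algebraMap Os C).comp (algebraMap Γ(S, U) Os) from rfl,
      ← Ideal.map_map, Ideal.map_pow (algebraMap Γ(S, U) Os),
      IsLocalization.AtPrime.map_eq_maximalIdeal P Os]
  have happ : ∀ x : C, ∃ f a : Γ(S, U), IsUnit (algebraMap Γ(S, U) C f) ∧
      algebraMap Γ(S, U) C f * x - algebraMap Γ(S, U) C a ∈
        (P ^ N).map (algebraMap Γ(S, U) C) := by
    intro x
    obtain ⟨c, hc⟩ := AdicRingLib.exists_sub_mem_map_pow
      (IsNoetherian.noetherian (IsLocalRing.maximalIdeal Os)) N x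
    obtain ⟨⟨a, f⟩, haf⟩ := IsLocalization.surj P.primeCompl c
    refine ⟨f.1, a, ?_, ?_⟩
    · exact (IsLocalization.map_units Os f).map (algebraMap Os C)
    · rw [hJC]
      change algebraMap Os C (algebraMap Γ(S, U) Os f.1) * x -
        algebraMap Os C (algebraMap Γ(S, U) Os a) ∈ _
      rw [← haf, map_mul, show ∀ p q : C, p * x - q * p = p * (x - q) from fun p q => by ring]
      exact Ideal.mul_mem_left _ _ hc
  obtain ⟨B', _, ι, hι, ⟨φ', hφ'⟩, huniq⟩ :=
    exists_refinement φ (P ^ N) (IsNoetherian.noetherian _) happ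
  let g : Spec (CommRingCat.of B') ⟶ T := Spec.map (CommRingCat.ofHom ι) ≫ hV.fromSpec
  let t' : Spec (CommRingCat.of B') :=
    ⟨(IsLocalRing.maximalIdeal C).comap φ', inferInstance⟩
  have hmC : (IsLocalRing.maximalIdeal Os).map (algebraMap Os C) = IsLocalRing.maximalIdeal C :=
    AdicCompletion.maximalIdeal_eq_map.symm
  have hg : g t' = t := by
    refine Eq.trans ?_ (hV.fromSpec_primeIdealOf ⟨t, htV⟩)
    rw [hV.primeIdealOf_eq_map_closedPoint ⟨t, htV⟩]
    show hV.fromSpec (Spec.map (CommRingCat.ofHom ι) t') = _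
    congr 1
    apply PrimeSpectrum.ext
    show ((IsLocalRing.maximalIdeal C).comap φ').comap ι =
      (IsLocalRing.maximalIdeal _).comap (T.presheaf.germ V t htV).hom
    rw [Ideal.comap_comap, hφ', ← comap_maximalIdeal_eq σ (fun a ha => hmC ▸ hloc a ha),
      Ideal.comap_comap]

  have hK := ApproxLib.germ_stalkMap_chart hV (CommRingCat.ofHom ι) t' t htV hg
  letI algT' := (ApproxLib.toStalkSpec (CommRingCat.of B') t').hom.toAlgebra
  haveI hlocT' := ApproxLib.isLocalization_toStalkSpec (CommRingCat.of B') t'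
  have hu : ∀ y : t'.asIdeal.primeCompl, IsUnit (φ' (y : B')) := fun y =>
    IsLocalRing.notMem_maximalIdeal.1 y.2
  let τ : ↑((Spec (CommRingCat.of B')).presheaf.stalk t') →+* C :=
    @IsLocalization.lift _ _ _ _ _ algT' _ _ hlocT' φ' hu
  have hτ : ∀ b, τ (ApproxLib.toStalkSpec (CommRingCat.of B') t' b) = φ' b := fun b =>
    @IsLocalization.lift_eq _ _ _ _ _ algT' _ _ hlocT' φ' hu b
  have hK' : ∀ b, g.stalkMap t' ((T.presheaf.stalkCongr (Inseparable.of_eq hg)).inv
      (T.presheaf.germ V t htV b)) = ApproxLib.toStalkSpec (CommRingCat.of B') t' (ι b) := by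
    intro b
    exact ConcreteCategory.congr_hom hK b
  letI algOt : Algebra Γ(T, V) (T.presheaf.stalk t) :=
    TopCat.Presheaf.algebra_section_stalk T.presheaf ⟨t, htV⟩
  haveI hlocV : IsLocalization.AtPrime (T.presheaf.stalk t) (hV.primeIdealOf ⟨t, htV⟩).asIdeal :=
    hV.isLocalization_stalk ⟨t, htV⟩
  refine ⟨Spec (CommRingCat.of B'), g, t', hg, τ, ?_, inferInstance, ?_, ?_⟩
  · haveI : LocallyOfFiniteType (Spec.map (CommRingCat.ofHom ι)) :=
      (HasRingHomProperty.Spec_iff (P := @LocallyOfFiniteType)).2 hι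
    infer_instance
  · refine IsLocalization.ringHom_ext (hV.primeIdealOf ⟨t, htV⟩).asIdeal.primeCompl ?_
    refine RingHom.ext fun b => ?_
    change τ (g.stalkMap t' ((T.presheaf.stalkCongr (Inseparable.of_eq hg)).inv
      (T.presheaf.germ V t htV b))) = σ (T.presheaf.germ V t htV b)
    rw [hK', hτ]
    exact RingHom.congr_fun hφ' b
  · rintro σ' hσ' ⟨τ', hτ'⟩ a
    rw [← hJC]
    let ψ : B' →+* C := τ'.comp (ApproxLib.toStalkSpec (CommRingCat.of B') t').hom
    have hψ : ∀ b, ψ (ι b) = σ' (T.presheaf.germ V t htV b) := fun b => by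
      show τ' (ApproxLib.toStalkSpec (CommRingCat.of B') t' (ι b)) = _
      rw [← hK']
      exact RingHom.congr_fun hτ' _
    have hd := huniq ψ (RingHom.ext fun r => by
      show ψ (ι (h.appLE U V hVU r)) = _
      rw [hψ, hgerm]
      exact RingHom.congr_fun hσ' _)
    have e : (Ideal.Quotient.mk ((P ^ N).map (algebraMap Γ(S, U) C))).comp σ =
        (Ideal.Quotient.mk ((P ^ N).map (algebraMap Γ(S, U) C))).comp σ' := by
      refine IsLocalization.ringHom_ext (hV.primeIdealOf ⟨t, htV⟩).asIdeal.primeCompl ?_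
      refine RingHom.ext fun b => ?_
      refine (Ideal.Quotient.mk_eq_mk_iff_sub_mem _ _).2 ?_
      have := hd b
      rw [hψ] at this
      exact this
    exact (Ideal.Quotient.mk_eq_mk_iff_sub_mem _ _).1 (RingHom.congr_fun e a)

end CompRefineLib
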